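/-
Uniform degree bounds for syzygies over fields (Hermann), by generic freeness.
-/
import Mathlib
import Groth.Agent.H7Flat.GenericFreeness

set_option autoImplicit false

universe u

open MvPolynomial TensorProduct

namespace Groth.Agent.H27Radical

section split

variable {D : Type} [CommRing D] [IsDomain D] {M N P : Type} [AddCommGroup M] [Module D M]
  [AddCommGroup N] [Module D N] [AddCommGroup P] [Module D P]

theorem injective_lTensor_of_awayFree (ι : M →ₗ[D] N) (p : N →ₗ[D] P) (hι : Function.Injective ι)
    (hp : Function.Surjective p) (hex : Function.Exact ι p) {f : D} (hP : H7Flat.IsAwayFree f P)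
    (k : Type u) [Field k] [Algebra D k] (hf : algebraMap D k f ≠ 0) :
    Function.Injective (ι.lTensor k) := by
  let E := Localization.Away f
  letI : Algebra E k := (IsLocalization.Away.lift (S := E) f (isUnit_iff_ne_zero.2 hf)).toAlgebra
  haveI : IsScalarTower D E k := IsScalarTower.of_algebraMap_eq fun d =>
    (IsLocalization.Away.lift_eq (S := E) f (isUnit_iff_ne_zero.2 hf) d).symm
  haveI : Module.Free E (E ⊗[D] P) := hP.free_baseChange
  have hιE : Function.Injective (ι.baseChange E) := Module.Flat.lTensor_preserves_injective_linearMap ι hι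
  have hpE : Function.Surjective (p.baseChange E) := LinearMap.lTensor_surjective E hp
  have hexE : Function.Exact (ι.baseChange E) (p.baseChange E) := lTensor_exact E hex hp
  obtain ⟨s, hs⟩ := Module.projective_lifting_property (p.baseChange E) LinearMap.id hpE
  let e := LinearEquiv.ofInjective (ι.baseChange E) hιE
  have hmem : ∀ y, (LinearMap.id - s ∘ₗ p.baseChange E : E ⊗[D] N →ₗ[E] E ⊗[D] N) y ∈
      LinearMap.range (ι.baseChange E) := fun y => by
    refine (hexE _).1 ?_
    rw [LinearMap.sub_apply, map_sub, LinearMap.id_apply, LinearMap.comp_apply,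
      show p.baseChange E (s (p.baseChange E y)) = p.baseChange E y from LinearMap.congr_fun hs _, sub_self]
  let r : E ⊗[D] N →ₗ[E] E ⊗[D] M :=
    e.symm.toLinearMap ∘ₗ (LinearMap.id - s ∘ₗ p.baseChange E).codRestrict _ hmem
  have hr : ∀ y, r (ι.baseChange E y) = y := fun y => by
    have h0 : p.baseChange E (ι.baseChange E y) = 0 := (hexE _).2 ⟨y, rfl⟩
    refine e.symm_apply_eq.2 (Subtype.ext ?_)
    show ι.baseChange E y - s (p.baseChange E (ι.baseChange E y)) = _
    rw [h0, map_zero, sub_zero]
    rfl
  have hnat : ∀ z : k ⊗[E] (E ⊗[D] M),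
      TensorProduct.AlgebraTensorModule.cancelBaseChange D E E k N ((ι.baseChange E).lTensor k z) =
        ι.lTensor k (TensorProduct.AlgebraTensorModule.cancelBaseChange D E E k M z) := fun z => by
    induction z with
    | zero => simp
    | add a b ha hb => simp only [map_add, ha, hb]
    | tmul c w =>
      induction w with
      | zero => simp
      | add a b ha hb => simp only [tmul_add, map_add, ha, hb]
      | tmul a m => simp
  have hinj : Function.Injective ((ι.baseChange E).lTensor k) :=
    Function.LeftInverse.injective (g := r.lTensor k) fun z => by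
      rw [← LinearMap.lTensor_comp_apply, show r ∘ₗ ι.baseChange E = LinearMap.id from LinearMap.ext hr,
        LinearMap.lTensor_id, LinearMap.id_apply]
  intro a b hab
  obtain ⟨a, rfl⟩ := (TensorProduct.AlgebraTensorModule.cancelBaseChange D E E k M).surjective a
  obtain ⟨b, rfl⟩ := (TensorProduct.AlgebraTensorModule.cancelBaseChange D E E k M).surjective b
  rw [← hnat, ← hnat] at hab
  rw [hinj ((TensorProduct.AlgebraTensorModule.cancelBaseChange D E E k N).injective hab)]

theorem injective_range_lTensor {T : Type} [CommRing T] [Algebra D T] [Module T M] [IsScalarTower D T M]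
    [Module T N] [IsScalarTower D T N] (L : M →ₗ[T] N) {f : D} (hP : H7Flat.IsAwayFree f (N ⧸ LinearMap.range L))
    (k : Type u) [Field k] [Algebra D k] (hf : algebraMap D k f ≠ 0) :
    Function.Injective ((LinearMap.range (L.restrictScalars D)).subtype.lTensor k) := by
  let p : N →ₗ[D] N ⧸ LinearMap.range L := (LinearMap.range L).mkQ.restrictScalars D
  have hval : ∀ y, p y = Submodule.Quotient.mk y := fun y => rfl
  have h1 : Function.Surjective p := fun x => by
    induction x using Submodule.Quotient.induction_on with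
    | _ y => exact ⟨y, hval y⟩
  let ι : LinearMap.range (L.restrictScalars D) →ₗ[D] N := (LinearMap.range (L.restrictScalars D)).subtype
  have h3 : Function.Injective ι := fun a b h => Subtype.ext h
  have hmem : ∀ y, y ∈ LinearMap.range (L.restrictScalars D) ↔ y ∈ LinearMap.range L := fun y =>
    ⟨fun ⟨w, hw⟩ => ⟨w, hw⟩, fun ⟨w, hw⟩ => ⟨w, hw⟩⟩
  have hex : Function.Exact ι p := fun y => by
    rw [hval, Submodule.Quotient.mk_eq_zero, ← hmem]
    constructor
    · intro h; exact ⟨⟨y, h⟩, rfl⟩
    · rintro ⟨z, rfl⟩; exact z.2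
  exact injective_lTensor_of_awayFree ι p h3 h1 hex hP k hf

end split

variable {σ : Type} [Finite σ] {s t : Type} [Fintype s] [Fintype t]

/-- Syzygies generated in degree `≤ R`. -/
def SyzBound {k : Type u} [CommRing k] (Φ : Matrix t s (MvPolynomial σ k)) (R : ℕ) : Prop :=
  ∀ x, Φ.mulVec x = 0 → x ∈ Submodule.span (MvPolynomial σ k) {y | Φ.mulVec y = 0 ∧ ∀ i, (y i).totalDegree ≤ R}

theorem SyzBound.mono {k : Type u} [CommRing k] {Φ : Matrix t s (MvPolynomial σ k)} {R R' : ℕ} (h : SyzBound Φ R)
    (hR : R ≤ R') : SyzBound Φ R' := fun x hx =>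
  Submodule.span_mono (s := {y | Φ.mulVec y = 0 ∧ ∀ i, (y i).totalDegree ≤ R})
    (fun y hy => (⟨hy.1, fun i => (hy.2 i).trans hR⟩ : Φ.mulVec y = 0 ∧ ∀ i, (y i).totalDegree ≤ R')) (h x hx)

section stratum

variable {D : Type} [CommRing D] {k : Type u} [CommRing k] [Algebra D k]

/-- Coefficientwise base change of vectors of polynomials. -/
noncomputable def mapVec (D : Type) [CommRing D] (k : Type u) [CommRing k] [Algebra D k] (s : Type) :
    (s → MvPolynomial σ D) →ₗ[D] (s → MvPolynomial σ k) where
  toFun v i := MvPolynomial.map (algebraMap D k) (v i)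
  map_add' v w := by funext i; simp
  map_smul' d v := by
    funext i
    simp [Algebra.smul_def, MvPolynomial.algebraMap_apply]

theorem bijective_mapVec (D : Type) [CommRing D] (k : Type u) [CommRing k] [Algebra D k] :
    Function.Bijective ((mapVec (σ := σ) D k s).liftBaseChange k) := by
  classical
  let b := Pi.basis fun _ : s => basisMonomials σ D
  let bk := Pi.basis fun _ : s => basisMonomials σ k
  have : (mapVec (σ := σ) D k s).liftBaseChange k = ((b.baseChange k).equiv bk (Equiv.refl _)).toLinearMap := by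
    refine (b.baseChange k).ext fun i => ?_
    rw [LinearEquiv.coe_coe, Module.Basis.equiv_apply, Module.Basis.baseChange_apply, LinearMap.liftBaseChange_tmul, one_smul,
      Equiv.refl_apply, Pi.basis_apply, Pi.basis_apply]
    funext j
    rcases eq_or_ne j i.1 with rfl | h
    · simp [mapVec]
    · simp [mapVec, Pi.single_eq_of_ne h]
  rw [this]
  exact LinearEquiv.bijective _

end stratum

/-- Over a Noetherian domain the syzygies have bounded degree on a nonempty open set. -/
theorem exists_syzBound_open {D : Type} [CommRing D] [IsDomain D] [IsNoetherianRing D]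
    (Φ : Matrix t s (MvPolynomial σ D)) :
    ∃ (a : D) (R : ℕ), a ≠ 0 ∧ ∀ (k : Type u) [Field k] (φ : D →+* k), φ a ≠ 0 →
      SyzBound (Φ.map (MvPolynomial.map φ)) R := by
  classical
  haveI : Fintype σ := Fintype.ofFinite σ
  let L : (s → MvPolynomial σ D) →ₗ[MvPolynomial σ D] (t → MvPolynomial σ D) := Φ.mulVecLin
  let P := (t → MvPolynomial σ D) ⧸ LinearMap.range L
  obtain ⟨a, ha, hP⟩ := H7Flat.exists_isAwayFree_of_finiteType (R := D) (MvPolynomial σ D) P
  obtain ⟨V, hV⟩ := IsNoetherian.noetherian (LinearMap.ker L)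
  refine ⟨a, (V.biUnion fun v => Finset.univ.image fun i => (v i).totalDegree).sup id, ha, fun k _ φ hφ x hx => ?_⟩
  letI : Algebra D k := φ.toAlgebra
  have hcomm : ∀ v, (Φ.map (MvPolynomial.map φ)).mulVec (mapVec D k s v) = mapVec D k t (Φ.mulVec v) := fun v => by
    funext j
    exact (RingHom.map_mulVec (MvPolynomial.map φ) Φ v j).symm
  let LD : (s → MvPolynomial σ D) →ₗ[D] (t → MvPolynomial σ D) := L.restrictScalars D
  have hsq : ∀ z, (mapVec (σ := σ) D k t).liftBaseChange k (LD.lTensor k z) =
      (Φ.map (MvPolynomial.map φ)).mulVec ((mapVec (σ := σ) D k s).liftBaseChange k z) := fun z => by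
    induction z with
    | zero => simp
    | add y y' hy hy' => simp only [map_add, hy, hy', Matrix.mulVec_add]
    | tmul c v =>
      simp only [LinearMap.lTensor_tmul, LinearMap.liftBaseChange_tmul, Matrix.mulVec_smul, hcomm]
      rfl
  obtain ⟨z, rfl⟩ := (bijective_mapVec (σ := σ) (s := s) D k).2 x
  rw [← hsq, ← map_zero ((mapVec (σ := σ) D k t).liftBaseChange k)] at hx
  have hz : LD.lTensor k z = 0 := (bijective_mapVec (σ := σ) (s := t) D k).1 hx
  have hinj : Function.Injective ((LinearMap.range LD).subtype.lTensor k) :=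
    injective_range_lTensor L hP k hφ
  have hz' : LD.rangeRestrict.lTensor k z = 0 := hinj (by
    rw [map_zero, ← LinearMap.lTensor_comp_apply]; exact hz)
  obtain ⟨w, rfl⟩ := (lTensor_exact k (fun y => by
    constructor
    · exact fun h => ⟨⟨y, congrArg Subtype.val h⟩, rfl⟩
    · rintro ⟨w, rfl⟩; exact Subtype.ext w.2 :
      Function.Exact (LinearMap.ker LD).subtype LD.rangeRestrict) LD.surjective_rangeRestrict z).1 hz'
  clear hx hz hz'
  set S' := Submodule.span (MvPolynomial σ k) {y : s → MvPolynomial σ k |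
    (Φ.map (MvPolynomial.map φ)).mulVec y = 0 ∧
      ∀ i, (y i).totalDegree ≤ (V.biUnion fun v => Finset.univ.image fun i => (v i).totalDegree).sup id}
  induction w with
  | zero => simp
  | add y y' hy hy' => rw [map_add, map_add]; exact add_mem hy hy'
  | tmul c v =>
    rw [LinearMap.lTensor_tmul, LinearMap.liftBaseChange_tmul]
    refine Submodule.smul_of_tower_mem _ c ?_
    have hv : v.1 ∈ Submodule.span (MvPolynomial σ D) (V : Set (s → MvPolynomial σ D)) := hV ▸ v.2
    show mapVec D k s v.1 ∈ S'
    revert hv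
    generalize v.1 = y₀
    intro hv
    induction hv using Submodule.span_induction with
    | mem y hy =>
      refine Submodule.subset_span ⟨?_, fun i => ?_⟩
      · have h0 : L y = 0 := LinearMap.mem_ker.1 (hV ▸ Submodule.subset_span hy)
        rw [hcomm, show Φ.mulVec y = 0 from h0, map_zero]
      · refine le_trans ?_ (Finset.le_sup (f := id)
          (Finset.mem_biUnion.2 ⟨y, hy, Finset.mem_image_of_mem _ (Finset.mem_univ i)⟩))
        exact Finset.sup_mono (MvPolynomial.support_map_subset _ _)
    | zero => rw [map_zero]; exact zero_mem _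
    | add y y' _ _ hy hy' => rw [map_add]; exact add_mem hy hy'
    | smul g y _ hy =>
      rw [show mapVec D k s (g • y) = MvPolynomial.map φ g • mapVec D k s y by
        funext i; exact map_mul (MvPolynomial.map φ) g (y i)]
      exact Submodule.smul_mem _ _ hy

/-- Monomials of degree at most `m`. -/
noncomputable def monos (σ : Type) [Finite σ] (m : ℕ) : Finset (σ →₀ ℕ) :=
  (Finsupp.finite_of_degree_le (σ := σ) m).toFinset

theorem mem_monos {m : ℕ} {μ : σ →₀ ℕ} : μ ∈ monos σ m ↔ Finsupp.degree μ ≤ m := by simp [monos]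

theorem sum_monos {k : Type*} [CommSemiring k] {m : ℕ} {p : MvPolynomial σ k} (hp : p.totalDegree ≤ m) :
    p = ∑ μ : monos σ m, monomial μ.1 (coeff μ.1 p) := by
  rw [Finset.sum_coe_sort (monos σ m) fun μ => monomial μ (coeff μ p)]
  conv_lhs => rw [p.as_sum]
  refine Finset.sum_subset (fun μ hμ => mem_monos.2 ((le_totalDegree hμ).trans hp)) fun μ _ hμ => ?_
  rw [notMem_support_iff.1 hμ, map_zero]

/-- The syzygies of a matrix of polynomials of bounded degree are generated in bounded degree,
uniformly in the field. -/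
theorem exists_syzBound (σ : Type) [Finite σ] (s t : Type) [Fintype s] [Fintype t] (m : ℕ) :
    ∃ R : ℕ, ∀ (k : Type u) [Field k] (Φ : Matrix t s (MvPolynomial σ k)),
      (∀ i j, (Φ i j).totalDegree ≤ m) → SyzBound Φ R := by
  classical
  let A := MvPolynomial (t × s × monos σ m) ℤ
  let U : Matrix t s (MvPolynomial σ A) := fun i j => ∑ μ : monos σ m, monomial μ.1 (X (i, j, μ))
  suffices H : ∀ Q : Ideal A, ∃ R : ℕ, ∀ (k : Type u) [Field k] (φ : A →+* k),
      Q ≤ RingHom.ker φ → SyzBound (U.map (MvPolynomial.map φ)) R by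
    obtain ⟨R, hR⟩ := H ⊥
    refine ⟨R, fun k _ Φ hΦ => ?_⟩
    let φ : A →+* k := eval₂Hom (Int.castRingHom k) fun x => coeff x.2.2.1 (Φ x.1 x.2.1)
    have : U.map (MvPolynomial.map φ) = Φ := by
      ext1 i j
      conv_rhs => rw [sum_monos (hΦ i j)]
      simp only [U, φ, Matrix.map_apply, map_sum, MvPolynomial.map_monomial]
      exact Finset.sum_congr rfl fun μ _ => congrArg _ (MvPolynomial.eval₂_X _ _ _)
    exact this ▸ hR k φ bot_le
  intro Q
  induction Q using WellFoundedGT.induction with
  | _ Q ih =>
    by_cases hQ : Q = ⊤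
    · exact ⟨0, fun k _ φ hle => absurd (top_unique (hQ ▸ hle)) (RingHom.ker_ne_top φ)⟩
    by_cases hp : Q.IsPrime
    · haveI := hp
      obtain ⟨a, R, ha, hR⟩ := exists_syzBound_open (D := A ⧸ Q) (U.map (MvPolynomial.map (Ideal.Quotient.mk Q)))
      obtain ⟨a, rfl⟩ := Ideal.Quotient.mk_surjective a
      obtain ⟨R', hR'⟩ := ih (Q ⊔ Ideal.span {a}) (left_lt_sup.2 ((not_congr (Ideal.span_singleton_le_iff_mem _)).2 fun h => ha (Ideal.Quotient.eq_zero_iff_mem.2 h)))
      refine ⟨max R R', fun k _ φ hle => ?_⟩
      by_cases hφ : φ a = 0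
      · exact (hR' k φ (sup_le hle (by simpa [Ideal.span_le] using hφ))).mono (le_max_right _ _)
      · have := hR k (Ideal.Quotient.lift Q φ hle) (by simpa using hφ)
        have e : (MvPolynomial.map (σ := σ) (Ideal.Quotient.lift Q φ hle)).comp (MvPolynomial.map (Ideal.Quotient.mk Q)) =
            MvPolynomial.map φ := MvPolynomial.ringHom_ext (by simp) (by simp)
        rw [Matrix.map_map, ← RingHom.coe_comp, e] at this
        exact this.mono (le_max_left _ _)
    · obtain ⟨x, hx, y, hy, hxy⟩ := (Ideal.not_isPrime_iff.1 hp).resolve_left hQ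
      obtain ⟨R₁, hR₁⟩ := ih (Q ⊔ Ideal.span {x}) (left_lt_sup.2 ((not_congr (Ideal.span_singleton_le_iff_mem _)).2 hx))
      obtain ⟨R₂, hR₂⟩ := ih (Q ⊔ Ideal.span {y}) (left_lt_sup.2 ((not_congr (Ideal.span_singleton_le_iff_mem _)).2 hy))
      refine ⟨max R₁ R₂, fun k _ φ hle => ?_⟩
      rcases mul_eq_zero.1 ((map_mul φ x y).symm.trans (hle hxy)) with h | h
      · exact (hR₁ k φ (sup_le hle (by simpa [Ideal.span_le] using h))).mono (le_max_left _ _)
      · exact (hR₂ k φ (sup_le hle (by simpa [Ideal.span_le] using h))).mono (le_max_right _ _)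

end Groth.Agent.H27Radical
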