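/-
Descent of polynomial ideals along finite field extensions, with degree bounds.
-/
import Groth.Agent.H27Radical.Kernel

set_option autoImplicit false

universe u

open MvPolynomial

namespace Groth.Agent.H27Radical

variable {σ : Type} {k L : Type u} [Field k] [Field L] [Algebra k L] {d : ℕ} (e : Module.Basis (Fin d) k L)

/-- The coordinates of a polynomial. -/
noncomputable def cpoly (r : Fin d) (p : MvPolynomial σ L) : MvPolynomial σ k :=
  ∑ μ ∈ p.support, monomial μ (e.repr (coeff μ p) r)

theorem coeff_cpoly (r : Fin d) (p : MvPolynomial σ L) (μ : σ →₀ ℕ) :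
    coeff μ (cpoly e r p) = e.repr (coeff μ p) r := by
  classical
  rw [cpoly, coeff_sum]
  simp only [coeff_monomial]
  rw [Finset.sum_ite_eq' p.support μ]
  split_ifs with h
  · rfl
  · rw [notMem_support_iff.1 h, map_zero, Finsupp.zero_apply]

theorem totalDegree_cpoly (r : Fin d) (p : MvPolynomial σ L) : (cpoly e r p).totalDegree ≤ p.totalDegree :=
  Finset.sup_mono fun μ hμ => by
    rw [mem_support_iff] at hμ ⊢
    rw [coeff_cpoly] at hμ
    exact fun h => hμ (by rw [h, map_zero, Finsupp.zero_apply])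

theorem coeff_mul_C' {R : Type*} [CommSemiring R] (p : MvPolynomial σ R) (a : R) (μ : σ →₀ ℕ) :
    coeff μ (p * C a) = coeff μ p * a := by rw [mul_comm, coeff_C_mul, mul_comm]

/-- Recombination of coordinates. -/
theorem sum_cpoly (p : MvPolynomial σ L) : ∑ r, MvPolynomial.map (algebraMap k L) (cpoly e r p) * C (e r) = p := by
  ext μ
  simp only [coeff_sum, coeff_mul_C', coeff_map, coeff_cpoly, ← Algebra.smul_def]
  exact e.sum_repr _

theorem eq_of_sum_eq {f g : Fin d → MvPolynomial σ k}
    (h : ∑ r, MvPolynomial.map (algebraMap k L) (f r) * C (e r) =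
      ∑ r, MvPolynomial.map (algebraMap k L) (g r) * C (e r)) : f = g := by
  funext r
  ext μ
  have h1 := congrArg (fun p => e.repr (coeff μ p) r) h
  simpa only [coeff_sum, coeff_mul_C', coeff_map, ← Algebra.smul_def, Module.Basis.repr_sum_self] using h1

theorem map_eq_sum (f : MvPolynomial σ k) :
    MvPolynomial.map (algebraMap k L) f =
      ∑ r, MvPolynomial.map (algebraMap k L) (f * C (e.repr 1 r)) * C (e r) := by
  ext μ
  simp only [coeff_sum, coeff_mul_C', coeff_map]
  simp only [map_mul, mul_assoc, ← Finset.mul_sum]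
  rw [show ∑ r, algebraMap k L (e.repr 1 r) * e r = 1 from by simp only [← Algebra.smul_def]; exact e.sum_repr 1,
    mul_one]

include e in
theorem mem_span_of_map_mem {ι : Type*} [Fintype ι] (p : ι → MvPolynomial σ k) {g : MvPolynomial σ k}
    (h : MvPolynomial.map (algebraMap k L) g ∈
      Ideal.span (Set.range fun i => MvPolynomial.map (algebraMap k L) (p i))) :
    g ∈ Ideal.span (Set.range p) := by
  obtain ⟨c, hc⟩ := (Ideal.mem_span_range_iff_exists_fun).1 h
  have h2 : (fun r => g * C (e.repr 1 r)) = fun r => ∑ i, cpoly e r (c i) * p i := by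
    refine eq_of_sum_eq e ?_
    rw [← map_eq_sum, ← hc]
    simp only [map_sum, map_mul, Finset.sum_mul]
    rw [Finset.sum_comm]
    refine Finset.sum_congr rfl fun i _ => ?_
    conv_lhs => rw [← sum_cpoly e (c i), Finset.sum_mul]
    exact Finset.sum_congr rfl fun r _ => by ring
  obtain ⟨r, hr⟩ : ∃ r, e.repr 1 r ≠ 0 := by
    by_contra hall
    push_neg at hall
    exact one_ne_zero (α := L) (by rw [← e.sum_repr 1]; simp [hall])
  have h3 : g = ∑ i, (cpoly e r (c i) * C (e.repr 1 r)⁻¹) * p i := by
    calc g = (g * C (e.repr 1 r)) * C (e.repr 1 r)⁻¹ := by rw [mul_assoc, ← map_mul, mul_inv_cancel₀ hr, map_one, mul_one]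
      _ = (∑ i, cpoly e r (c i) * p i) * C (e.repr 1 r)⁻¹ := by rw [show g * C (e.repr 1 r) = _ from congrFun h2 r]
      _ = _ := by rw [Finset.sum_mul]; exact Finset.sum_congr rfl fun i _ => by ring
  rw [h3]
  exact sum_mem fun i _ => Ideal.mul_mem_left _ _ (Ideal.subset_span ⟨i, rfl⟩)

section bound

variable [Finite σ]

include e in
/-- Polynomials over `k` in an ideal over `L` generated in bounded degree are combinations of bounded degree ones. -/
theorem mem_span_bounded {s : ℕ} (q : Fin s → MvPolynomial σ L) {R₁ R : ℕ} (hq : ∀ l, (q l).totalDegree ≤ R₁)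
    (hR : ∀ Φ : Matrix (Fin d) (Unit ⊕ Fin s × Fin d) (MvPolynomial σ k),
      (∀ i j, (Φ i j).totalDegree ≤ R₁) → SyzBound Φ R)
    {f : MvPolynomial σ k} (hf : MvPolynomial.map (algebraMap k L) f ∈ Ideal.span (Set.range q)) :
    f ∈ Ideal.span {g : MvPolynomial σ k | g.totalDegree ≤ R ∧
      MvPolynomial.map (algebraMap k L) g ∈ Ideal.span (Set.range q)} := by
  classical
  let Φ : Matrix (Fin d) (Unit ⊕ Fin s × Fin d) (MvPolynomial σ k) := fun r x =>
    Sum.elim (fun _ => C (e.repr 1 r)) (fun li => cpoly e r (q li.1 * C (e li.2))) x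
  have hΦ : ∀ i j, (Φ i j).totalDegree ≤ R₁ := by
    rintro i (u | li)
    · simp [Φ]
    · refine (totalDegree_cpoly e i _).trans ((totalDegree_mul _ _).trans ?_)
      simpa using hq li.1
  let T : (Unit ⊕ Fin s × Fin d → MvPolynomial σ k) → MvPolynomial σ L := fun x =>
    MvPolynomial.map (algebraMap k L) (x (Sum.inl ())) +
      ∑ li : Fin s × Fin d, MvPolynomial.map (algebraMap k L) (x (Sum.inr li)) * C (e li.2) * q li.1
  have hT : ∀ x, ∑ r, MvPolynomial.map (algebraMap k L) (Φ.mulVec x r) * C (e r) = T x := fun x => by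
    simp only [Matrix.mulVec, dotProduct, Fintype.sum_sum_type, map_add, map_sum, map_mul, add_mul, Finset.sum_add_distrib,
      Finset.sum_mul, T]
    congr 1
    · simp only [Finset.univ_unique, Finset.sum_singleton, Φ, Sum.elim_inl]
      conv_rhs => rw [map_eq_sum e (x (Sum.inl ()))]
      exact Finset.sum_congr rfl fun r _ => by rw [map_mul]; ring
    · rw [Finset.sum_comm]
      refine Finset.sum_congr rfl fun li _ => ?_
      simp only [Φ, Sum.elim_inr]
      calc ∑ r, MvPolynomial.map (algebraMap k L) (cpoly e r (q li.1 * C (e li.2))) *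
            MvPolynomial.map (algebraMap k L) (x (Sum.inr li)) * C (e r)
          = MvPolynomial.map (algebraMap k L) (x (Sum.inr li)) *
              ∑ r, MvPolynomial.map (algebraMap k L) (cpoly e r (q li.1 * C (e li.2))) * C (e r) := by
            rw [Finset.mul_sum]; exact Finset.sum_congr rfl fun r _ => by ring
        _ = _ := by rw [sum_cpoly]; ring
  have hker : ∀ x, Φ.mulVec x = 0 ↔ T x = 0 := fun x => by
    rw [← hT]
    refine ⟨fun h => by simp [h], fun h => eq_of_sum_eq e ?_⟩
    rw [h]; simp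
  obtain ⟨h, hh⟩ := (Ideal.mem_span_range_iff_exists_fun).1 hf
  let x : Unit ⊕ Fin s × Fin d → MvPolynomial σ k := Sum.elim (fun _ => f) fun li => -cpoly e li.2 (h li.1)
  have hx : Φ.mulVec x = 0 := by
    rw [hker]
    simp only [T, x, Sum.elim_inl, Sum.elim_inr, map_neg, neg_mul, Finset.sum_neg_distrib, Fintype.sum_prod_type]
    rw [← hh, ← sub_eq_add_neg, sub_eq_zero]
    refine Finset.sum_congr rfl fun l _ => ?_
    rw [← Finset.sum_mul, sum_cpoly]
  have hmem := hR Φ hΦ x hx
  rw [show f = x (Sum.inl ()) from rfl]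
  generalize x = y at hmem
  induction hmem using Submodule.span_induction with
  | mem y hy =>
    refine Ideal.subset_span ⟨hy.2 _, ?_⟩
    have h0 := (hker y).1 hy.1
    simp only [T] at h0
    rw [eq_neg_of_add_eq_zero_left h0]
    exact neg_mem (sum_mem fun li _ => Ideal.mul_mem_left _ _ (Ideal.subset_span ⟨li.1, rfl⟩))
  | zero => exact zero_mem _
  | add a b _ _ ha hb => exact add_mem ha hb
  | smul c a _ ha => exact Ideal.mul_mem_left _ c ha

end bound

end Groth.Agent.H27Radical
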