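/-
Radical ideals stay radical on an open set of the parameter space.
-/
import Mathlib
import Groth.Agent.H7Flat.GenericGeomReduced
import Groth.Agent.H06Red.Scheme
import Groth.Agent.H06Desc.Geom

set_option autoImplicit false
set_option linter.style.haveILetI false

universe u

open MvPolynomial TensorProduct CategoryTheory CategoryTheory.Limits AlgebraicGeometry

namespace Groth.Agent.H27Radical

variable {C : Type u} [CommRing C] {σ : Type} [Finite σ]

theorem isReduced_tensor_iff (I : Ideal (MvPolynomial σ C)) (L : Type u) [CommRing L] [Algebra C L] :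
    _root_.IsReduced (L ⊗[C] (MvPolynomial σ C ⧸ I)) ↔
      (I.map (MvPolynomial.map (algebraMap C L))).IsRadical := by
  classical
  let e := MvPolynomial.algebraTensorAlgEquiv (σ := σ) C L
  let E := (Algebra.TensorProduct.tensorQuotientEquiv (R := C) L (MvPolynomial σ C) L I).toRingEquiv.trans
    (Ideal.quotientEquiv _ (I.map (MvPolynomial.map (algebraMap C L))) e.toRingEquiv (by
      rw [← Ideal.map_coe Algebra.TensorProduct.includeRight, Ideal.map_map]
      congr 1
      refine RingHom.ext fun p => ?_
      simp [e, Algebra.TensorProduct.includeRight_apply]))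
  rw [Ideal.isRadical_iff_quotient_reduced]
  exact ⟨fun h => isReduced_of_injective E.symm E.symm.injective, fun h => isReduced_of_injective E E.injective⟩

variable [IsDomain C]

/-- A radical ideal at the geometric generic point is radical at all points of a nonempty open set. -/
theorem exists_radical_open (I : Ideal (MvPolynomial σ C)) (K : Type u) [Field K] [IsAlgClosed K]
    (ψ : C →+* K) (hψ : Function.Injective ψ) (h : (I.map (MvPolynomial.map ψ)).IsRadical) :
    ∃ c : C, c ≠ 0 ∧ ∀ (L : Type u) [Field L] (χ : C →+* L), χ c ≠ 0 → (I.map (MvPolynomial.map χ)).IsRadical := by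
  classical
  let B := MvPolynomial σ C ⧸ I
  let f : Spec (CommRingCat.of B) ⟶ Spec (CommRingCat.of C) := Spec.map (CommRingCat.ofHom (algebraMap C B))
  haveI : Algebra.FiniteType C B := inferInstance
  haveI : LocallyOfFiniteType f :=
    (HasRingHomProperty.Spec_iff (P := @LocallyOfFiniteType)).2 (RingHom.finiteType_algebraMap.2 inferInstance)
  -- reducedness of a fibre over a field
  have key : ∀ (L : Type u) [Field L] (χ : C →+* L),
      (IsReduced (pullback f (Spec.map (CommRingCat.ofHom χ))) ↔ (I.map (MvPolynomial.map χ)).IsRadical) := by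
    intro L _ χ
    letI := χ.toAlgebra
    let E := Algebra.TensorProduct.comm C B L
    refine Iff.trans ⟨fun _ => ?_, fun _ => ?_⟩ (isReduced_tensor_iff I L)
    · haveI : IsReduced (Spec (CommRingCat.of (B ⊗[C] L))) :=
        isReduced_of_isOpenImmersion (pullbackSpecIso C B L).inv
      haveI : _root_.IsReduced (B ⊗[C] L) := (affine_isReduced_iff (CommRingCat.of (B ⊗[C] L))).1 inferInstance
      exact isReduced_of_injective E.symm E.symm.injective
    · haveI : _root_.IsReduced (L ⊗[C] (MvPolynomial σ C ⧸ I)) := ‹_›
      haveI : _root_.IsReduced (B ⊗[C] L) := isReduced_of_injective E E.injective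
      haveI : IsReduced (Spec (CommRingCat.of (B ⊗[C] L))) :=
        (affine_isReduced_iff (CommRingCat.of (B ⊗[C] L))).2 inferInstance
      exact isReduced_of_isOpenImmersion (pullbackSpecIso C B L).hom
  -- the generic fibre
  let F := FractionRing C
  let g : Spec (CommRingCat.of F) ⟶ Spec (CommRingCat.of C) := Spec.map (CommRingCat.ofHom (algebraMap C F))
  let ψF : F →+* K := IsFractionRing.lift hψ
  let b : Spec (CommRingCat.of K) ⟶ Spec (CommRingCat.of F) := Spec.map (CommRingCat.ofHom ψF)
  have hbg : b ≫ g = Spec.map (CommRingCat.ofHom ψ) := by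
    rw [← Spec.map_comp, ← CommRingCat.ofHom_comp]
    congr
    exact RingHom.ext fun x => IsFractionRing.lift_algebraMap hψ x
  haveI : IsReduced (pullback f (b ≫ g)) := by rw [hbg]; exact (key K ψ).2 h
  haveI : IsReduced (pullback (pullback.snd f g) b) :=
    isReduced_of_isOpenImmersion (pullbackLeftPullbackSndIso f g b).hom
  haveI : GeometricallyReduced (pullback.snd (pullback.snd f g) b) := H06Red.geometricallyReduced_of_perfectField _
  haveI : GeometricallyReduced (pullback.snd f g) :=
    H06Desc.geometricallyReduced_of_pullback_snd (pullback.snd f g) b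
  have hη : g (IsLocalRing.closedPoint F) = genericPoint (Spec (CommRingCat.of C)) := by
    rw [genericPoint_eq_bot_of_affine]
    refine PrimeSpectrum.ext ?_
    show (IsLocalRing.maximalIdeal F).comap (algebraMap C F) = ⊥
    rw [IsLocalRing.maximalIdeal_eq_bot, ← RingHom.ker_eq_comap_bot]
    exact (RingHom.injective_iff_ker_eq_bot _).1 (IsFractionRing.injective C F)
  have hgen : GeometricallyReduced (f.fiberToSpecResidueField (genericPoint (Spec (CommRingCat.of C)))) := by
    have h1 : GeometricallyReduced ((pullback.snd f g).fiberToSpecResidueField (IsLocalRing.closedPoint F)) :=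
      inferInstance
    rw [GeometricallyReduced.eq_geometrically] at h1 ⊢
    rw [← hη]
    exact (H8Props.GeometricDescent.fiber_iff H8Props.GeometricDescent.descends_isReduced f g (pullback.snd f g) _
      (IsPullback.of_hasPullback f g) _).1 h1
  obtain ⟨V, ⟨x, hx⟩, hV⟩ := H7Flat.GenericFibre.exists_opens_geometricallyReduced f hgen
  obtain ⟨W, hW, hxc, hcV⟩ := PrimeSpectrum.isTopologicalBasis_basic_opens.exists_subset_of_mem_open hx V.2
  obtain ⟨c, rfl⟩ := hW
  refine ⟨c, fun hc => by rw [hc] at hxc; exact hxc (Ideal.zero_mem _), fun L _ χ hχ => (key L χ).1 ?_⟩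
  let y := Spec.map (CommRingCat.ofHom χ)
  have hy : Set.range y ⊆ Set.range V.ι := by
    rintro _ ⟨p, rfl⟩
    rw [Scheme.Opens.range_ι]
    refine hcV ?_
    show c ∉ p.asIdeal.comap χ
    exact fun hh => p.isPrime.ne_top (Ideal.eq_top_of_isUnit_mem _ hh (isUnit_iff_ne_zero.2 hχ))
  let y' := IsOpenImmersion.lift V.ι y hy
  haveI := hV
  have hsq := (IsPullback.of_hasPullback (f ∣_ V) y').flip.paste_vert
    (isPullback_morphismRestrict f V)
  haveI : IsReduced (pullback (f ∣_ V) y') :=
    GeometricallyReduced.geometrically_isReduced y' _ _ (IsPullback.of_hasPullback (f ∣_ V) y')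
  exact isReduced_of_isOpenImmersion (hsq.flip.isoPullback ≪≫ pullback.congrHom rfl
    (IsOpenImmersion.lift_fac V.ι y hy)).inv

end Groth.Agent.H27Radical
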