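/-
A degree bound for radicals, uniform in the field.
-/
import Groth.Agent.H27Radical.Descent
import Groth.Agent.H27Radical.Reduced

set_option autoImplicit false
set_option linter.style.haveILetI false

universe u

open MvPolynomial TensorProduct

namespace Groth.Agent.H27Radical

variable {σ : Type} [Finite σ]

theorem exists_map_eq {R S : Type*} [CommRing R] [CommRing S] (f : R →+* S) (p : MvPolynomial σ S)
    (h : ∀ μ, coeff μ p ∈ f.range) : ∃ q, MvPolynomial.map f q = p := by
  choose g hg using h
  refine ⟨∑ μ ∈ p.support, monomial μ (g μ), ?_⟩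
  simp only [map_sum, map_monomial, hg]
  exact (p.as_sum).symm

/-- The radical is generated in bounded degree on a nonempty open set of parameters. -/
theorem exists_radBound_open {D : Type u} [CommRing D] [IsDomain D] [IsNoetherianRing D] {ι : Type} [Fintype ι]
    (P : ι → MvPolynomial σ D) :
    ∃ (a : D) (R : ℕ), a ≠ 0 ∧ ∀ (k : Type u) [Field k] (φ : D →+* k), φ a ≠ 0 →
      ∀ f ∈ (Ideal.span (Set.range fun i => MvPolynomial.map φ (P i))).radical,
        f ∈ Ideal.span {g : MvPolynomial σ k | g.totalDegree ≤ R ∧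
          g ∈ (Ideal.span (Set.range fun i => MvPolynomial.map φ (P i))).radical} := by
  classical
  let F := FractionRing D
  let K := AlgebraicClosure F
  haveI : Algebra.IsAlgebraic D F := IsLocalization.isAlgebraic F (nonZeroDivisors D)
  haveI : Algebra.IsAlgebraic D K := Algebra.IsAlgebraic.trans D F K
  have hDK : Function.Injective (algebraMap D K) := by
    rw [IsScalarTower.algebraMap_eq D F K]
    exact (algebraMap F K).injective.comp (IsFractionRing.injective D F)
  let J : Ideal (MvPolynomial σ K) := Ideal.span (Set.range fun i => MvPolynomial.map (algebraMap D K) (P i))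
  obtain ⟨s, q, hq⟩ := Submodule.fg_iff_exists_fin_generating_family.1 (IsNoetherian.noetherian J.radical)
  replace hq : Ideal.span (Set.range q) = J.radical := hq
  have h1 : ∀ l, ∃ (M : ℕ) (g : ι → MvPolynomial σ K), ∑ i, g i * MvPolynomial.map (algebraMap D K) (P i) = q l ^ M :=
    fun l => by
      obtain ⟨M, hM⟩ : q l ∈ J.radical := hq ▸ Ideal.subset_span ⟨l, rfl⟩
      exact ⟨M, (Ideal.mem_span_range_iff_exists_fun).1 hM⟩
  choose M g hg using h1
  have h2 : ∀ i, ∃ h : Fin s → MvPolynomial σ K, ∑ l, h l * q l = MvPolynomial.map (algebraMap D K) (P i) := fun i => by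
    refine (Ideal.mem_span_range_iff_exists_fun).1 ?_
    rw [hq]
    exact Ideal.le_radical (Ideal.subset_span ⟨i, rfl⟩)
  choose h hh using h2
  let cs : MvPolynomial σ K → Finset K := fun p => p.support.image fun μ => coeff μ p
  let S0 : Finset K := (Finset.univ.biUnion fun l => cs (q l)) ∪ (Finset.univ.biUnion fun x : Fin s × ι => cs (g x.1 x.2)) ∪
    (Finset.univ.biUnion fun x : ι × Fin s => cs (h x.1 x.2))
  let C₀ : Subalgebra D K := Algebra.adjoin D (S0 : Set K)
  haveI : Algebra.FiniteType D C₀ := (Subalgebra.fg_iff_finiteType C₀).1 ⟨S0, rfl⟩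
  haveI : IsNoetherianRing C₀ := Algebra.FiniteType.isNoetherianRing D C₀
  have hlift : ∀ p : MvPolynomial σ K, cs p ⊆ S0 → ∃ p', MvPolynomial.map (C₀.val : C₀ →+* K) p' = p := fun p hp =>
    exists_map_eq _ p fun μ => by
      by_cases hμ : μ ∈ p.support
      · exact ⟨⟨coeff μ p, Algebra.subset_adjoin (hp (Finset.mem_image_of_mem _ hμ))⟩, rfl⟩
      · exact ⟨0, by rw [map_zero, notMem_support_iff.1 hμ]⟩
  have hsub1 : ∀ l, cs (q l) ⊆ S0 := fun l x hx => by
    refine Finset.mem_union_left _ (Finset.mem_union_left _ ?_)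
    exact Finset.mem_biUnion.2 ⟨l, Finset.mem_univ _, hx⟩
  have hsub2 : ∀ l i, cs (g l i) ⊆ S0 := fun l i x hx => by
    refine Finset.mem_union_left _ (Finset.mem_union_right _ ?_)
    exact Finset.mem_biUnion.2 ⟨(l, i), Finset.mem_univ _, hx⟩
  have hsub3 : ∀ i l, cs (h i l) ⊆ S0 := fun i l x hx => by
    refine Finset.mem_union_right _ ?_
    exact Finset.mem_biUnion.2 ⟨(i, l), Finset.mem_univ _, hx⟩
  choose q' hq' using fun l => hlift (q l) (hsub1 l)
  choose g' hg' using fun l i => hlift (g l i) (hsub2 l i)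
  choose h' hh' using fun i l => hlift (h i l) (hsub3 i l)
  have hval : Function.Injective (MvPolynomial.map (σ := σ) (C₀.val : C₀ →+* K)) :=
    MvPolynomial.map_injective _ Subtype.val_injective
  have hcomp : ((C₀.val : C₀ →+* K)).comp (algebraMap D C₀) = algebraMap D K := RingHom.ext fun _ => rfl
  have eg : ∀ l, ∑ i, g' l i * MvPolynomial.map (algebraMap D C₀) (P i) = q' l ^ M l := fun l => hval (by
    simp only [map_sum, map_mul, map_pow, MvPolynomial.map_map, hcomp, hg', hq', hg])
  have eh : ∀ i, ∑ l, h' i l * q' l = MvPolynomial.map (algebraMap D C₀) (P i) := fun i => hval (by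
    simp only [map_sum, map_mul, MvPolynomial.map_map, hcomp, hh', hq', hh])
  have hrad : ((Ideal.span (Set.range q')).map (MvPolynomial.map (C₀.val : C₀ →+* K))).IsRadical := by
    rw [Ideal.map_span, ← Set.range_comp, show (MvPolynomial.map (C₀.val : C₀ →+* K)) ∘ q' = q from funext hq', hq]
    exact Ideal.radical_isRadical _
  obtain ⟨c, hc0, hc⟩ := exists_radical_open (Ideal.span (Set.range q')) K (C₀.val : C₀ →+* K) Subtype.val_injective hrad
  let S1 : Finset K := insert ((c : K)⁻¹) S0
  have hmul : ∀ x : K, ∃ y : D, y ≠ 0 ∧ IsIntegral D (y • x) := fun x =>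
    (Algebra.IsAlgebraic.isAlgebraic x).exists_integral_multiple
  choose y hy0 hy using hmul
  let a : D := ∏ x ∈ S1, y x
  have ha : a ≠ 0 := Finset.prod_ne_zero_iff.2 fun x _ => hy0 x
  let E := Localization.Away a
  have haK : IsUnit (algebraMap D K a) := isUnit_iff_ne_zero.2 fun h => ha (hDK (h.trans (map_zero _).symm))
  letI : Algebra E K := (IsLocalization.Away.lift (S := E) a haK).toAlgebra
  haveI : IsScalarTower D E K := IsScalarTower.of_algebraMap_eq fun d =>
    (IsLocalization.Away.lift_eq (S := E) a haK d).symm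
  have hint : ∀ x ∈ S1, IsIntegral E x := fun x hx => by
    have h1 : IsIntegral E (y x • x) := (hy x).tower_top
    have hu : IsUnit (algebraMap D E (y x)) :=
      isUnit_of_dvd_unit (map_dvd _ (Finset.dvd_prod_of_mem y hx)) (IsLocalization.Away.algebraMap_isUnit a)
    obtain ⟨v, hv⟩ := hu.exists_left_inv
    have : x = v • (y x • x) := by
      rw [← IsScalarTower.algebraMap_smul E (y x) x, ← mul_smul, hv, one_smul]
    rw [this]
    exact h1.smul v
  let CE : Subalgebra E K := Algebra.adjoin E (S1 : Set K)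
  haveI : Module.Finite E CE :=
    Module.Finite.iff_fg.2 (fg_adjoin_of_finite S1.finite_toSet hint)
  obtain ⟨nb, w, hw⟩ := Module.Finite.exists_fin (R := E) (M := CE)
  have hle : C₀ ≤ CE.restrictScalars D :=
    Algebra.adjoin_le fun x hx => Algebra.subset_adjoin (Finset.mem_insert_of_mem hx)
  let incl : C₀ →+* CE := (Subalgebra.inclusion hle).toRingHom
  let R₁ := Finset.univ.sup fun l => (q' l).totalDegree
  choose Rd hRd using fun d : ℕ => exists_syzBound.{u} σ (Unit ⊕ Fin s × Fin d) (Fin d) R₁
  refine ⟨a, (Finset.range (nb + 1)).sup Rd, ha, fun k _ φ hφ f hf => ?_⟩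
  letI : Algebra E k := (IsLocalization.Away.lift (S := E) a (isUnit_iff_ne_zero.2 hφ)).toAlgebra
  -- a point over the algebraic extension
  haveI : Nontrivial (k ⊗[E] CE) := by
    let p : PrimeSpectrum E := ⟨RingHom.ker (algebraMap E k), RingHom.ker_isPrime _⟩
    have hp : p ∈ Module.support E CE := by
      rw [Module.support_eq_zeroLocus, PrimeSpectrum.mem_zeroLocus]
      intro z hz
      have h1 : z • (1 : CE) = 0 := Module.mem_annihilator.1 hz 1
      have h2 : algebraMap E K z = 0 := by simpa [Algebra.smul_def] using congrArg Subtype.val h1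
      have hE : Function.Injective (algebraMap E K) := by
        rw [injective_iff_map_eq_zero]
        intro z hz
        obtain ⟨n, d, hd⟩ := IsLocalization.Away.surj a z
        have h3 := congrArg (algebraMap E K) hd
        rw [map_mul, hz, zero_mul, ← IsScalarTower.algebraMap_apply] at h3
        rw [show d = 0 from hDK (h3.symm.trans (map_zero _).symm), map_zero] at hd
        exact (IsLocalization.Away.algebraMap_pow_isUnit a n).mul_left_eq_zero.1 hd
      show z ∈ p.asIdeal
      rw [show z = 0 from hE (h2.trans (map_zero _).symm)]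
      exact zero_mem _
    haveI : p.asIdeal.IsPrime := p.isPrime
    haveI := (Module.mem_support_iff_nontrivial_residueField_tensorProduct p).1 hp
    letI : Algebra p.asIdeal.ResidueField k :=
      (Ideal.ResidueField.lift p.asIdeal (algebraMap E k) le_rfl (fun x hx => isUnit_iff_ne_zero.2 hx)).toAlgebra
    haveI : IsScalarTower E p.asIdeal.ResidueField k :=
      IsScalarTower.of_algebraMap_eq fun x => (Ideal.ResidueField.lift_algebraMap _ _ _ _ x).symm
    exact (TensorProduct.AlgebraTensorModule.cancelBaseChange E p.asIdeal.ResidueField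
      p.asIdeal.ResidueField k CE).toEquiv.symm.nontrivial
  obtain ⟨mx, hmx⟩ := Ideal.exists_maximal (k ⊗[E] CE)
  let L := (k ⊗[E] CE) ⧸ mx
  letI : Field L := Ideal.Quotient.field mx
  haveI : Module.Finite k (k ⊗[E] CE) := inferInstance
  have hL : Module.finrank k L ≤ nb := by
    refine (LinearMap.finrank_le_finrank_of_surjective (f := (Ideal.Quotient.mkₐ k mx).toLinearMap)
      (Ideal.Quotient.mkₐ_surjective k mx)).trans ?_
    let T : (Fin nb → k) →ₗ[k] k ⊗[E] CE := Fintype.linearCombination k fun b => (1 : k) ⊗ₜ[E] w b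
    have hT : Function.Surjective T := by
      intro z
      induction z with
      | zero => exact ⟨0, map_zero _⟩
      | add z z' hz hz' =>
        obtain ⟨u, rfl⟩ := hz; obtain ⟨u', rfl⟩ := hz'; exact ⟨u + u', map_add _ _ _⟩
      | tmul c v =>
        obtain ⟨β, rfl⟩ := (Submodule.mem_span_range_iff_exists_fun E).1 (hw ▸ Submodule.mem_top (x := v))
        refine ⟨fun b => c * algebraMap E k (β b), ?_⟩
        simp only [T, Fintype.linearCombination_apply, TensorProduct.tmul_sum, TensorProduct.smul_tmul']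
        refine Finset.sum_congr rfl fun b _ => ?_
        rw [← TensorProduct.smul_tmul, smul_eq_mul, mul_one, Algebra.smul_def, mul_comm]
    exact (LinearMap.finrank_le_finrank_of_surjective hT).trans (by simp)
  let χE : CE →+* L := (Ideal.Quotient.mk mx).comp (Algebra.TensorProduct.includeRight : CE →ₐ[E] k ⊗[E] CE).toRingHom
  let χ : C₀ →+* L := χE.comp incl
  have hχD : χ.comp (algebraMap D C₀) = (algebraMap k L).comp φ := RingHom.ext fun d => by
    show Ideal.Quotient.mk mx ((1 : k) ⊗ₜ[E] incl (algebraMap D C₀ d)) = Ideal.Quotient.mk mx (φ d ⊗ₜ[E] (1 : CE))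
    congr 1
    rw [show incl (algebraMap D C₀ d) = (algebraMap D E d) • (1 : CE) from Subtype.ext (by
      show algebraMap D K d = _
      rw [SetLike.val_smul, Algebra.smul_def, ← IsScalarTower.algebraMap_apply]
      simp), ← TensorProduct.smul_tmul, Algebra.smul_def, mul_one]
    exact congrArg (· ⊗ₜ[E] (1 : CE)) (IsLocalization.Away.lift_eq (S := E) a _ d)
  have hχc : χ c ≠ 0 := by
    have h1 : incl c * (⟨(c : K)⁻¹, Algebra.subset_adjoin (Finset.mem_insert_self _ _)⟩ : CE) = 1 :=
      Subtype.ext (mul_inv_cancel₀ fun h => hc0 (Subtype.ext h))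
    intro h
    have h2 := congrArg χE h1
    rw [map_mul, map_one, show χE (incl c) = 0 from h, zero_mul] at h2
    exact zero_ne_one h2
  let qL : Fin s → MvPolynomial σ L := fun l => MvPolynomial.map χ (q' l)
  have hqrad : (Ideal.span (Set.range qL)).IsRadical := by
    have := hc L χ hχc
    rwa [Ideal.map_span, ← Set.range_comp] at this
  set Jk := Ideal.span (Set.range fun i => MvPolynomial.map φ (P i)) with hJk
  have hPL : ∀ i, MvPolynomial.map (algebraMap k L) (MvPolynomial.map φ (P i)) =
      MvPolynomial.map χ (MvPolynomial.map (algebraMap D C₀) (P i)) := fun i => by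
    rw [MvPolynomial.map_map, MvPolynomial.map_map, hχD]
  let e := Module.finBasis k L
  have hiff : ∀ g : MvPolynomial σ k,
      MvPolynomial.map (algebraMap k L) g ∈ Ideal.span (Set.range qL) ↔ g ∈ Jk.radical := by
    intro g
    constructor
    · intro hg
      have hle' : Ideal.span (Set.range qL) ≤
          (Ideal.span (Set.range fun i => MvPolynomial.map (algebraMap k L) (MvPolynomial.map φ (P i)))).radical := by
        rw [Ideal.span_le]
        rintro _ ⟨l, rfl⟩
        refine ⟨M l, ?_⟩
        simp only [qL]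
        rw [← map_pow, ← eg, map_sum]
        refine sum_mem fun i _ => ?_
        rw [map_mul, ← hPL]
        exact Ideal.mul_mem_left _ _ (Ideal.subset_span ⟨i, rfl⟩)
      obtain ⟨N, hN⟩ := hle' hg
      rw [← map_pow] at hN
      exact ⟨N, mem_span_of_map_mem e _ hN⟩
    · rintro ⟨N, hN⟩
      refine hqrad ⟨N, ?_⟩
      rw [← map_pow]
      have : Jk.map (MvPolynomial.map (algebraMap k L)) ≤ Ideal.span (Set.range qL) := by
        rw [hJk, Ideal.map_span, Ideal.span_le]
        rintro _ ⟨_, ⟨i, rfl⟩, rfl⟩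
        rw [hPL, ← eh, map_sum]
        exact sum_mem fun l _ => by rw [map_mul]; exact Ideal.mul_mem_left _ _ (Ideal.subset_span ⟨l, rfl⟩)
      exact this (Ideal.mem_map_of_mem _ hN)
  have hres := mem_span_bounded e qL (R₁ := R₁) (R := (Finset.range (nb + 1)).sup Rd)
    (fun l => le_trans (Finset.sup_mono (MvPolynomial.support_map_subset _ _))
      (Finset.le_sup (f := fun l => (q' l).totalDegree) (Finset.mem_univ l)))
    (fun Φ hΦ => (hRd _ k Φ hΦ).mono (Finset.le_sup (Finset.mem_range.2 (Nat.lt_succ_of_le hL))))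
    ((hiff f).2 hf)
  refine (Ideal.span_le.2 ?_) hres
  rintro g ⟨hg1, hg2⟩
  exact Ideal.subset_span ⟨hg1, (hiff g).1 hg2⟩

/-- The radical of an ideal generated in degree at most `m` is generated in bounded degree. -/
theorem exists_radical_bound (σ : Type) [Finite σ] (m : ℕ) :
    ∃ R : ℕ, ∀ (k : Type u) [Field k] (S : Set (MvPolynomial σ k)), (∀ p ∈ S, p.totalDegree ≤ m) →
      ∀ f ∈ (Ideal.span S).radical,
        f ∈ Ideal.span {g : MvPolynomial σ k | g.totalDegree ≤ R ∧ g ∈ (Ideal.span S).radical} := by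
  classical
  haveI : IsNoetherianRing (ULift.{u} ℤ) := isNoetherianRing_of_ringEquiv ℤ ULift.ringEquiv.symm
  let A := MvPolynomial (monos σ m × monos σ m) (ULift.{u} ℤ)
  let U : monos σ m → MvPolynomial σ A := fun i => ∑ μ : monos σ m, monomial μ.1 (X (i, μ))
  suffices H : ∀ Q : Ideal A, ∃ R : ℕ, ∀ (k : Type u) [Field k] (φ : A →+* k), Q ≤ RingHom.ker φ →
      ∀ f ∈ (Ideal.span (Set.range fun i => MvPolynomial.map φ (U i))).radical,
        f ∈ Ideal.span {g : MvPolynomial σ k | g.totalDegree ≤ R ∧
          g ∈ (Ideal.span (Set.range fun i => MvPolynomial.map φ (U i))).radical} by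
    obtain ⟨R, hR⟩ := H ⊥
    refine ⟨R, fun k _ S hS => ?_⟩
    -- replace `S` by a family indexed by the monomials
    let V := MvPolynomial.restrictTotalDegree σ k m
    let W := Submodule.span k S
    have hWV : W ≤ V := Submodule.span_le.2 fun p hp => (mem_restrictTotalDegree σ m p).2 (hS p hp)
    obtain ⟨π, hπ⟩ := LinearMap.exists_leftInverse_of_injective W.subtype W.ker_subtype
    let P : monos σ m → MvPolynomial σ k := fun μ => (π (monomial μ.1 1)).1
    have hP : ∀ μ, (P μ).totalDegree ≤ m := fun μ =>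
      (mem_restrictTotalDegree σ m _).1 (hWV (π (monomial μ.1 1)).2)
    have hspan : Ideal.span (Set.range P) = Ideal.span S := by
      refine le_antisymm (Ideal.span_le.2 ?_) (Ideal.span_le.2 fun p hp => ?_)
      · rintro _ ⟨μ, rfl⟩
        exact (Submodule.span_le.2 (Ideal.subset_span (α := MvPolynomial σ k)) :
          W ≤ (Ideal.span S).restrictScalars k) (π (monomial μ.1 1)).2
      · have h1 : (π p).1 = p := congrArg Subtype.val (LinearMap.congr_fun hπ ⟨p, Submodule.subset_span hp⟩)
        rw [SetLike.mem_coe, ← h1]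
        conv => arg 2; rw [sum_monos (hS p hp)]
        rw [map_sum, AddSubmonoidClass.coe_finsetSum]
        refine sum_mem fun μ _ => ?_
        rw [← mul_one (coeff μ.1 p), ← smul_eq_mul, ← smul_monomial, map_smul, SetLike.val_smul, smul_eq_C_mul]
        exact Ideal.mul_mem_left _ _ (Ideal.subset_span ⟨μ, rfl⟩)
    let φ : A →+* k := eval₂Hom ((Int.castRingHom k).comp ULift.ringEquiv.toRingHom) fun x => coeff x.2.1 (P x.1)
    have hU : (fun i => MvPolynomial.map φ (U i)) = P := funext fun i => by
      conv_rhs => rw [sum_monos (hP i)]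
      simp only [U, φ, map_sum, MvPolynomial.map_monomial]
      exact Finset.sum_congr rfl fun μ _ => congrArg _ (MvPolynomial.eval₂_X _ _ _)
    have := hR k φ bot_le
    rw [hU, hspan] at this
    exact this
  intro Q
  induction Q using WellFoundedGT.induction with
  | _ Q ih =>
    by_cases hQ : Q = ⊤
    · exact ⟨0, fun k _ φ hle => absurd (top_unique (hQ ▸ hle)) (RingHom.ker_ne_top φ)⟩
    have hmono : ∀ {k : Type u} [Field k] {J : Ideal (MvPolynomial σ k)} {R R' : ℕ}, R ≤ R' →
        Ideal.span {g : MvPolynomial σ k | g.totalDegree ≤ R ∧ g ∈ J} ≤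
          Ideal.span {g : MvPolynomial σ k | g.totalDegree ≤ R' ∧ g ∈ J} := fun {k} _ {J R R'} hR =>
      Ideal.span_mono fun g hg => (⟨hg.1.trans hR, hg.2⟩ : g.totalDegree ≤ R' ∧ g ∈ J)
    by_cases hp : Q.IsPrime
    · haveI := hp
      obtain ⟨a, R, ha, hR⟩ := exists_radBound_open (D := A ⧸ Q) (fun i => MvPolynomial.map (Ideal.Quotient.mk Q) (U i))
      obtain ⟨a, rfl⟩ := Ideal.Quotient.mk_surjective a
      obtain ⟨R', hR'⟩ := ih (Q ⊔ Ideal.span {a}) (left_lt_sup.2
        ((not_congr (Ideal.span_singleton_le_iff_mem _)).2 fun h => ha (Ideal.Quotient.eq_zero_iff_mem.2 h)))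
      refine ⟨max R R', fun k _ φ hle => ?_⟩
      by_cases hφ : φ a = 0
      · exact fun f hf => hmono (le_max_right _ _) (hR' k φ (sup_le hle (by simpa [Ideal.span_le] using hφ)) f hf)
      · have := hR k (Ideal.Quotient.lift Q φ hle) (by simpa using hφ)
        simp only [MvPolynomial.map_map, Ideal.Quotient.lift_comp_mk] at this
        exact fun f hf => hmono (le_max_left _ _) (this f hf)
    · obtain ⟨x, hx, y, hy, hxy⟩ := (Ideal.not_isPrime_iff.1 hp).resolve_left hQ
      obtain ⟨R₁, hR₁⟩ := ih (Q ⊔ Ideal.span {x}) (left_lt_sup.2 ((not_congr (Ideal.span_singleton_le_iff_mem _)).2 hx))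
      obtain ⟨R₂, hR₂⟩ := ih (Q ⊔ Ideal.span {y}) (left_lt_sup.2 ((not_congr (Ideal.span_singleton_le_iff_mem _)).2 hy))
      refine ⟨max R₁ R₂, fun k _ φ hle => ?_⟩
      rcases mul_eq_zero.1 ((map_mul φ x y).symm.trans (hle hxy)) with h | h
      · exact fun f hf => hmono (le_max_left _ _) (hR₁ k φ (sup_le hle (by simpa [Ideal.span_le] using h)) f hf)
      · exact fun f hf => hmono (le_max_right _ _) (hR₂ k φ (sup_le hle (by simpa [Ideal.span_le] using h)) f hf)

end Groth.Agent.H27Radical
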